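import Cfsg.Agent.Lib.H17.HeRel.RelZStepsA
import Cfsg.Agent.Lib.H17.HeRel.RelZStepsB
import Cfsg.Agent.Lib.H17.RelCert

set_option autoImplicit false
set_option maxRecDepth 100000

/-! # Relations from a certified enumeration over the trivial subgroup, HeRel RelZ (generated) -/

namespace Cfsg.Agent.Lib.H17.HeRel.RelZ

open Cfsg.Spor Cfsg.Agent.Lib.H17.CosetCert Cfsg.Agent.Lib.H17.CoxGlue Cfsg.Agent.Lib.H17.HeGlue Cfsg.Agent.Lib.H17.SubChain Cfsg.Agent.Lib.H17.HeRel

theorem words_OK : WordsOK γo (1 : G) words := by
  intro v hv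
  obtain ⟨h1, h2⟩ := words_spec v hv
  refine ⟨fun _ q => act_eq_of_prod_eq_one γo γo_mul_self v.1 (rel_trivial v.1 h2) q, fun hf => ?_⟩
  rw [h1] at hf
  exact absurd hf (by simp)

theorem inv_all : Inv F 5 γo (1 : G) 38204 15262 := by
  have h0 := inv_zero F 5 γo (1 : G)
  have h1 := checkSteps_sound F 5 16777216 γo γo_mul_self (1 : G) words words_OK steps0 0 1 1018 h0 chk0
  rw [len0] at h1
  have h2 := checkSteps_sound F 5 16777216 γo γo_mul_self (1 : G) words words_OK steps1 2000 1018 1872 h1 chk1
  rw [len1] at h2
  have h3 := checkSteps_sound F 5 16777216 γo γo_mul_self (1 : G) words words_OK steps2 4000 1872 2765 h2 chk2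
  rw [len2] at h3
  have h4 := checkSteps_sound F 5 16777216 γo γo_mul_self (1 : G) words words_OK steps3 6000 2765 3661 h3 chk3
  rw [len3] at h4
  have h5 := checkSteps_sound F 5 16777216 γo γo_mul_self (1 : G) words words_OK steps4 8000 3661 4568 h4 chk4
  rw [len4] at h5
  have h6 := checkSteps_sound F 5 16777216 γo γo_mul_self (1 : G) words words_OK steps5 10000 4568 5417 h5 chk5
  rw [len5] at h6
  have h7 := checkSteps_sound F 5 16777216 γo γo_mul_self (1 : G) words words_OK steps6 12000 5417 6213 h6 chk6
  rw [len6] at h7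
  have h8 := checkSteps_sound F 5 16777216 γo γo_mul_self (1 : G) words words_OK steps7 14000 6213 7084 h7 chk7
  rw [len7] at h8
  have h9 := checkSteps_sound F 5 16777216 γo γo_mul_self (1 : G) words words_OK steps8 16000 7084 7850 h8 chk8
  rw [len8] at h9
  have h10 := checkSteps_sound F 5 16777216 γo γo_mul_self (1 : G) words words_OK steps9 18000 7850 8728 h9 chk9
  rw [len9] at h10
  have h11 := checkSteps_sound F 5 16777216 γo γo_mul_self (1 : G) words words_OK steps10 20000 8728 9533 h10 chk10
  rw [len10] at h11
  have h12 := checkSteps_sound F 5 16777216 γo γo_mul_self (1 : G) words words_OK steps11 22000 9533 10387 h11 chk11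
  rw [len11] at h12
  have h13 := checkSteps_sound F 5 16777216 γo γo_mul_self (1 : G) words words_OK steps12 24000 10387 11187 h12 chk12
  rw [len12] at h13
  have h14 := checkSteps_sound F 5 16777216 γo γo_mul_self (1 : G) words words_OK steps13 26000 11187 12010 h13 chk13
  rw [len13] at h14
  have h15 := checkSteps_sound F 5 16777216 γo γo_mul_self (1 : G) words words_OK steps14 28000 12010 12722 h14 chk14
  rw [len14] at h15
  have h16 := checkSteps_sound F 5 16777216 γo γo_mul_self (1 : G) words words_OK steps15 30000 12722 13393 h15 chk15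
  rw [len15] at h16
  have h17 := checkSteps_sound F 5 16777216 γo γo_mul_self (1 : G) words words_OK steps16 32000 13393 14007 h16 chk16
  rw [len16] at h17
  have h18 := checkSteps_sound F 5 16777216 γo γo_mul_self (1 : G) words words_OK steps17 34000 14007 14633 h17 chk17
  rw [len17] at h18
  have h19 := checkSteps_sound F 5 16777216 γo γo_mul_self (1 : G) words words_OK steps18 36000 14633 15261 h18 chk18
  rw [len18] at h19
  have h20 := checkSteps_sound F 5 16777216 γo γo_mul_self (1 : G) words words_OK steps19 38000 15261 15262 h19 chk19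
  rw [len19] at h20
  exact h20

theorem walk0 : walk F 5 16777216 38204 15 0x400001800004a0000b300017e0002bf0004dd00947600048b00028f00015e0000a2000041000013000002 0 [2, 3, 2, 3, 4, 3, 2, 3, 2, 3, 4, 3, 2, 3, 4] = some (0, 0, []) := by
  decide +kernel

/-- the words are trivial in the presented group -/
theorem relations : ∀ v ∈ relWords, (v.map γo).prod = 1 := by
  intro v hv
  simp only [relWords, List.mem_cons, List.not_mem_nil, or_false] at hv
  rcases hv with rfl
  · exact Cfsg.Agent.Lib.H17.RelCert.prod_eq_one_of_walk F 5 16777216 γo γo_mul_self 38204 15262 inv_all 15 _ _ _ walk0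

end Cfsg.Agent.Lib.H17.HeRel.RelZ
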